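import Cfsg.Agent.Fi23Pts.Base
import Cfsg.Agent.M24G2.Data

/-!
The set of the common neighbours as points, and the checks of the twelve words.
-/

set_option autoImplicit false
set_option maxRecDepth 100000
set_option exponentiation.threshold 700000
set_option Elab.async false

namespace CfsgLib.M24G2

open CfsgLib.CosetEnum CfsgLib.Fi23Pts

noncomputable section

/-- The point of the member meeting the marked one in a line. -/
def PV : ℕ := 23118

/-- Unpack a word. -/
def wdF : ℕ → ℕ → List ℕ
  | _, 0 => []
  | c, f + 1 => bif Nat.beq c 0 then [] else (c % 16 - 1) :: wdF (c / 16) f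

/-- Unpack a word. -/
def wd (c : ℕ) : List ℕ := wdF c 256

/-- The point of a line. -/
def lpN (p : ℕ) : ℕ := (LPm >>> (15 * p)) % 32768

/-- Whether a point is among the common neighbours. -/
def inA (p : ℕ) : Bool := ABm.testBit p

/-- The bit mask of a list of points. -/
def maskOf : List ℕ → ℕ
  | [] => 0
  | p :: l => 2 ^ p ||| maskOf l

theorem testBit_maskOf (l : List ℕ) (q : ℕ) : (maskOf l).testBit q = true ↔ q ∈ l := by
  induction l with
  | nil => simp [maskOf]
  | cons p l ih =>
    rw [maskOf, Nat.testBit_or, Bool.or_eq_true, ih, List.mem_cons, Nat.testBit_two_pow, decide_eq_true_eq]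
    exact or_congr_left eq_comm

/-- Strictly increasing. -/
def incr : List ℕ → Bool
  | a :: b :: l => Nat.blt a b && incr (b :: l)
  | _ => true

theorem incr_pairwise : ∀ {l : List ℕ}, incr l = true → l.Pairwise (· < ·)
  | [], _ => List.Pairwise.nil
  | [a], _ => List.pairwise_singleton _ _
  | a :: b :: l, h => by
    simp only [incr, Bool.and_eq_true, Nat.blt_eq] at h
    have h2 := incr_pairwise h.2
    refine List.pairwise_cons.2 ⟨fun c hc => ?_, h2⟩
    rcases List.mem_cons.1 hc with rfl | hc
    · exact h.1
    · exact h.1.trans ((List.pairwise_cons.1 h2).1 c hc)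

theorem mask_ok : ABm = maskOf AL := Nat.eq_of_beq_eq_true (by decide +kernel)

theorem AL_ok : (incr AL && Nat.beq AL.length 3240 && AL.all (fun p => Nat.blt p 31671) && inA 0 && inA PV &&
    !com PV 0) = true := by decide +kernel

theorem inA_iff (q : ℕ) : inA q = true ↔ q ∈ AL := by rw [inA, mask_ok, testBit_maskOf]

/-- The letters of the common centralizer keep the common neighbours. -/
def closed (l : List ℕ) : Bool := l.all fun p => [1, 2, 3, 4, 5, 6, 7, 8, 9].all fun k => inA (walkS [k] p)

theorem closed0 : closed AL0 = true := by decide +kernel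

theorem closed1 : closed AL1 = true := by decide +kernel

theorem closed2 : closed AL2 = true := by decide +kernel

theorem closed3 : closed AL3 = true := by decide +kernel

theorem closed4 : closed AL4 = true := by decide +kernel

theorem closed5 : closed AL5 = true := by decide +kernel

theorem closed6 : closed AL6 = true := by decide +kernel

theorem closed7 : closed AL7 = true := by decide +kernel

theorem closed8 : closed AL8 = true := by decide +kernel

theorem closed9 : closed AL9 = true := by decide +kernel

theorem closed_AL {p k : ℕ} (hp : inA p = true) (hk : k ∈ [1, 2, 3, 4, 5, 6, 7, 8, 9]) :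
    inA (walkS [k] p) = true := by
  rw [inA_iff] at hp
  simp only [AL, List.mem_append] at hp
  rcases hp with ((((((((hp | hp) | hp) | hp) | hp) | hp) | hp) | hp) | hp) | hp
  · exact List.all_eq_true.1 (List.all_eq_true.1 closed0 p hp) k hk
  · exact List.all_eq_true.1 (List.all_eq_true.1 closed1 p hp) k hk
  · exact List.all_eq_true.1 (List.all_eq_true.1 closed2 p hp) k hk
  · exact List.all_eq_true.1 (List.all_eq_true.1 closed3 p hp) k hk
  · exact List.all_eq_true.1 (List.all_eq_true.1 closed4 p hp) k hk
  · exact List.all_eq_true.1 (List.all_eq_true.1 closed5 p hp) k hk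
  · exact List.all_eq_true.1 (List.all_eq_true.1 closed6 p hp) k hk
  · exact List.all_eq_true.1 (List.all_eq_true.1 closed7 p hp) k hk
  · exact List.all_eq_true.1 (List.all_eq_true.1 closed8 p hp) k hk
  · exact List.all_eq_true.1 (List.all_eq_true.1 closed9 p hp) k hk

/-- The word fixes the two marked points and has no letter `0` or `7`. -/
def okG (w : List ℕ) : Bool :=
  w.all (fun x => [1, 2, 3, 4, 5, 6, 8, 9].any (Nat.beq x)) && Nat.beq (walkS w PV) PV

/-- The words act on the 351 points as prescribed. -/
def actG (r : ℕ) : Bool :=
  force ((WG.getD r 0)) fun c => okG (wd c) && (List.range 351).all fun p =>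
    Nat.beq (walkS (wd c) (lpN p)) (lpN ((PIm.getD r 0 >>> (9 * p)) % 512))

theorem actG0 : actG 0 = true := by decide +kernel

theorem actG1 : actG 1 = true := by decide +kernel

theorem actG2 : actG 2 = true := by decide +kernel

theorem actG3 : actG 3 = true := by decide +kernel

theorem actG4 : actG 4 = true := by decide +kernel

theorem actG5 : actG 5 = true := by decide +kernel

theorem actG6 : actG 6 = true := by decide +kernel

theorem actG7 : actG 7 = true := by decide +kernel

theorem actG8 : actG 8 = true := by decide +kernel

theorem actG9 : actG 9 = true := by decide +kernel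

theorem actG10 : actG 10 = true := by decide +kernel

theorem actG11 : actG 11 = true := by decide +kernel

theorem actG_all {r : ℕ} (hr : r < 12) : actG r = true := by
  interval_cases r
  exacts [actG0, actG1, actG2, actG3, actG4, actG5, actG6, actG7, actG8, actG9, actG10, actG11]

theorem lp_ok : ((List.range 351).all fun p => Nat.blt (lpN p) 31671 &&
    (List.range p).all fun q => !Nat.beq (lpN p) (lpN q)) = true := by decide +kernel

/-- The test number of a word. -/
def codeW (w : List ℕ) : ℕ := Qs.foldr (fun q acc => 2 * acc + (bif inA (walkS w q) then 1 else 0)) 0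

/-- The word fixes the two marked points and has no letter `7`. -/
def okC (w : List ℕ) : Bool :=
  w.all (fun x => [0, 1, 2, 3, 4, 5, 6, 8, 9].any (Nat.beq x)) && Nat.beq (walkS w PV) PV && Nat.beq (walkS w 0) 0

/-- A block of words has the given test numbers. -/
def blockOK : List ℕ → List ℕ → Bool
  | [], [] => true
  | c :: l, d :: m => force c (fun c => okC (wd c) && Nat.beq (codeW (wd c)) d) && blockOK l m
  | _, _ => false

theorem blockOK_append : ∀ {l m : List ℕ} {l' m' : List ℕ}, blockOK l m = true → blockOK l' m' = true →
    blockOK (l ++ l') (m ++ m') = true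
  | [], [], _, _, _, h => h
  | [], _ :: _, _, _, h, _ => by simp [blockOK] at h
  | _ :: _, [], _, _, h, _ => by simp [blockOK] at h
  | c :: l, d :: m, l', m', h, h' => by
    simp only [blockOK, Bool.and_eq_true] at h
    simp only [List.cons_append, blockOK, Bool.and_eq_true]
    exact ⟨h.1, blockOK_append h.2 h'⟩

theorem blockOK_split {l m : List ℕ} (h1 : blockOK (l.take 45) (m.take 45) = true)
    (h2 : blockOK ((l.drop 45).take 45) ((m.drop 45).take 45) = true)
    (h3 : blockOK ((l.drop 45).drop 45) ((m.drop 45).drop 45) = true) : blockOK l m = true := by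
  have h := blockOK_append h1 (blockOK_append h2 h3)
  rwa [List.take_append_drop, List.take_append_drop, List.take_append_drop, List.take_append_drop] at h

end

end CfsgLib.M24G2
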