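import Cfsg.Agent.M24G2.Checks

/-! The test numbers of a block of words. -/

set_option autoImplicit false
set_option maxRecDepth 100000
set_option exponentiation.threshold 700000
set_option Elab.async false

namespace CfsgLib.M24G2

theorem block0a : blockOK (WI0.take 45) (CD0.take 45) = true := by decide +kernel

theorem block0b : blockOK ((WI0.drop 45).take 45) ((CD0.drop 45).take 45) = true := by decide +kernel

theorem block0c : blockOK ((WI0.drop 45).drop 45) ((CD0.drop 45).drop 45) = true := by decide +kernel

theorem block0 : blockOK WI0 CD0 = true := blockOK_split block0a block0b block0c

end CfsgLib.M24G2
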