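import Cfsg.Agent.M24G2.Checks

/-! The test numbers of a block of words. -/

set_option autoImplicit false
set_option maxRecDepth 100000
set_option exponentiation.threshold 700000
set_option Elab.async false

namespace CfsgLib.M24G2

theorem block3a : blockOK (WI3.take 45) (CD3.take 45) = true := by decide +kernel

theorem block3b : blockOK ((WI3.drop 45).take 45) ((CD3.drop 45).take 45) = true := by decide +kernel

theorem block3c : blockOK ((WI3.drop 45).drop 45) ((CD3.drop 45).drop 45) = true := by decide +kernel

theorem block3 : blockOK WI3 CD3 = true := blockOK_split block3a block3b block3c

end CfsgLib.M24G2
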