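import Cfsg.Agent.M24G2.Data
import Cfsg.Agent.Ree3.Cert
import Cfsg.Agent.ReeG2.Good
import Cfsg.Agent.S1059

/-!
`G₂(3)` permutes 351 lines of its module of dimension fourteen faithfully: twelve permutations generate a
copy of it.
-/

set_option autoImplicit false
set_option maxRecDepth 100000
set_option Elab.async false
set_option linter.style.haveILetI false

namespace CfsgLib.M24G2

open Cfsg Cfsg.Lie CfsgLib.Ree3 Matrix

noncomputable section

/-- The permutation of a root element as a map on numbers. -/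
def piN (r p : ℕ) : ℕ := (PIm.getD r 0 >>> (9 * p)) % 512

/-- The packed vector of a line. -/
def vecN (p : ℕ) : ℕ := (VCm >>> (28 * p)) % 268435456

/-- A vector as a packed matrix with one column. -/
def colCode (v : ℕ) : Code := (List.range 14).map fun i =>
  ((if (v >>> (2 * i)) % 4 == 1 then 1 else 0), (if (v >>> (2 * i)) % 4 == 2 then 1 else 0))

/-- The opposite vector as a packed matrix. -/
def negCode (c : Code) : Code := c.map Prod.swap

theorem pi_ok : ((List.range 12).all fun r => (List.range 351).all fun p =>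
    Nat.blt (piN r p) 351 && Nat.beq (piN r (piN r (piN r p))) p) = true := by decide +kernel

theorem step_ok : ((List.range 12).all fun r => (List.range 351).all fun p =>
    (fun c d => c == d || c == negCode d) (mulCode (xC r 1) (colCode (vecN p))) (colCode (vecN (piN r p)))) = true := by
  decide +kernel

theorem sq_ok : ((List.range 12).all fun r => mulCode (xC r 1) (xC r 1) == xC r 2 && xC r 0 == oneCode) = true := by
  decide +kernel

theorem cube_ok : ∀ r : Fin 12, mulCode (xC r 2) (xC r 1) = oneCode ∧ mulCode (xC r 1) (xC r 2) = oneCode := by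
  decide +kernel

/-- Coordinates and vectors. -/
abbrev V14 : Type := Fin 2 ⊕ Fin 12 → ZMod 3

/-- The vector of a packed matrix. -/
def colV (c : Code) : V14 := fun a => toMat c a (.inl 0)

/-- The vector of a line. -/
def vec (p : Fin 351) : V14 := colV (colCode (vecN p))

theorem colV_neg {c : Code} : colV (negCode c) = -colV c := by
  funext a
  simp only [colV, toMat, Matrix.of_apply, Pi.neg_apply, negCode]
  rw [← rowVal_swap, show ((0, 0) : ℕ × ℕ) = Prod.swap (0, 0) from rfl, List.getD_map]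
  rfl

theorem colV_mul {M N : Code} (hM : M.length = 14) : colV (mulCode M N) = toMat M *ᵥ colV N := by
  funext a
  simp only [colV]
  rw [toMat_mul _ _ hM]
  rfl

/-- The key of a vector up to sign. -/
def key (v : V14) : ℕ :=
  (fun k : V14 → ℕ => min (k v) (k (-v))) fun u => ((List.range 14).map fun i => (u (coord i)).val * 3 ^ i).sum

theorem key_ok : (List.range 351).all (fun p => Nat.beq (key (colV (colCode (vecN p)))) (KEYm.getD p 0)) = true ∧
    (List.range 350).all (fun p => Nat.blt (KEYm.getD p 0) (KEYm.getD (p + 1) 0)) = true := by decide +kernel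

theorem key_neg (v : V14) : key (-v) = key v := by
  simp only [key, neg_neg]
  exact min_comm _ _

theorem eq_of_vec {p q : Fin 351} (h : vec p = vec q ∨ vec p = -vec q) : p = q := by
  obtain ⟨h1, h2⟩ := key_ok
  have hk : ∀ i : Fin 351, key (vec i) = KEYm.getD i 0 := fun i =>
    Nat.eq_of_beq_eq_true (List.all_eq_true.1 h1 i.1 (List.mem_range.2 i.2))
  have hlt : ∀ i j : ℕ, i < j → j < 351 → KEYm.getD i 0 < KEYm.getD j 0 := by
    intro i j hij hj
    induction j with
    | zero => omega
    | succ j ih =>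
      have hs : KEYm.getD j 0 < KEYm.getD (j + 1) 0 := by
        simpa using List.all_eq_true.1 h2 j (List.mem_range.2 (by omega))
      rcases Nat.lt_succ_iff_lt_or_eq.1 hij with h' | rfl
      · exact (ih h' (by omega)).trans hs
      · exact hs
  have he : key (vec p) = key (vec q) := by
    rcases h with h | h <;> rw [h]
    exact key_neg _
  rw [hk, hk] at he
  rcases Nat.lt_trichotomy p.1 q.1 with hpq | hpq | hpq
  · have := hlt _ _ hpq q.2; omega
  · exact Fin.ext hpq
  · have := hlt _ _ hpq p.2; omega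

/-- The permutation of a root element on the lines. -/
def piP (r : Fin 12) : Equiv.Perm (Fin 351) :=
  have hs : ∀ p : Fin 351, piN r p < 351 ∧ piN r (piN r (piN r p)) = p := fun p => by
    have h := List.all_eq_true.1 (List.all_eq_true.1 pi_ok r.1 (List.mem_range.2 r.2)) p.1 (List.mem_range.2 p.2)
    simpa using h
  { toFun := fun p => ⟨piN r p, (hs p).1⟩
    invFun := fun p => ⟨piN r (piN r p), (hs ⟨_, (hs p).1⟩).1⟩
    left_inv := fun p => Fin.ext (hs p).2
    right_inv := fun p => Fin.ext (hs p).2 }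

theorem piP_val (r : Fin 12) (p : Fin 351) : (piP r p : ℕ) = piN r p := rfl

theorem piP_ne {r : Fin 12} (hr : r = 0) : piP r ≠ 1 := by
  subst hr
  intro h
  have := congrArg (fun σ : Equiv.Perm (Fin 351) => (List.range 351).map fun p =>
    if hp : p < 351 then (σ ⟨p, hp⟩ : ℕ) else 0) h
  revert this
  decide +kernel

/-- The group of the twelve permutations. -/
def PG : Subgroup (Equiv.Perm (Fin 351)) := Subgroup.closure (Set.range piP)

theorem xMat_eq (r : Fin 12) (t : ZMod 3) : chevG2.xMat (ZMod 3) r t = toMat (xC r t) := by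
  rw [show chevG2.xMat (ZMod 3) r t = chevG2.x (ZMod 3) r t from by
    unfold ChevalleyDatum.x
    rw [dif_pos (show (r : ℕ) < chevG2.nroots from r.2)]
    rfl]
  exact Matrix.ext fun a b => ((xC_ok r.1 r.2 t).2 a b).symm

theorem xMat_step (r : Fin 12) (p : Fin 351) :
    toMat (xC r 1) *ᵥ vec p = vec (piP r p) ∨ toMat (xC r 1) *ᵥ vec p = -vec (piP r p) := by
  have h := List.all_eq_true.1 (List.all_eq_true.1 step_ok r.1 (List.mem_range.2 r.2)) p.1 (List.mem_range.2 p.2)
  simp only [Bool.or_eq_true, beq_iff_eq] at h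
  rw [vec, ← colV_mul (xC_ok r.1 r.2 1).1]
  rcases h with h | h <;> rw [h]
  · exact Or.inl rfl
  · exact Or.inr colV_neg

/-- The pairs of a matrix and the permutation it induces on the lines. -/
def GammaG : Subgroup (GL (Fin 2 ⊕ Fin 12) (ZMod 3) × Equiv.Perm (Fin 351)) where
  carrier := {x | ∀ p, (x.1 : Matrix (Fin 2 ⊕ Fin 12) (Fin 2 ⊕ Fin 12) (ZMod 3)) *ᵥ vec p = vec (x.2 p) ∨
    (x.1 : Matrix (Fin 2 ⊕ Fin 12) (Fin 2 ⊕ Fin 12) (ZMod 3)) *ᵥ vec p = -vec (x.2 p)}
  one_mem' p := Or.inl (by simp)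
  mul_mem' {x y} hx hy p := by
    simp only [Prod.fst_mul, Prod.snd_mul, Units.val_mul, ← Matrix.mulVec_mulVec, Equiv.Perm.mul_apply]
    rcases hy p with h | h <;> rw [h] <;> rcases hx (y.2 p) with h' | h' <;>
      simp [Matrix.mulVec_neg, h']
  inv_mem' {x} hx p := by
    have h1 : ((x.1⁻¹ : GL (Fin 2 ⊕ Fin 12) (ZMod 3)) : Matrix (Fin 2 ⊕ Fin 12) (Fin 2 ⊕ Fin 12) (ZMod 3)) *ᵥ
        ((x.1 : Matrix (Fin 2 ⊕ Fin 12) (Fin 2 ⊕ Fin 12) (ZMod 3)) *ᵥ vec (x.2⁻¹ p)) = vec (x.2⁻¹ p) := by
      rw [Matrix.mulVec_mulVec, ← Units.val_mul, inv_mul_cancel, Units.val_one, Matrix.one_mulVec]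
    have h2 : x.2 (x.2⁻¹ p) = p := x.2.apply_symm_apply p
    simp only [Prod.fst_inv, Prod.snd_inv]
    rcases hx (x.2⁻¹ p) with h | h <;> rw [h, h2] at h1
    · exact Or.inl h1
    · rw [Matrix.mulVec_neg] at h1
      exact Or.inr (by rw [← h1, neg_neg])

/-- The twelve permutations generate a copy of `G₂(3)`. -/
theorem exists_equiv : Nonempty (↥PG ≃* ↥(chevG2.group (ZMod 3))) := by
  have hu : ∀ r : Fin 12, IsUnit (toMat (xC r 1)) := fun r => by
    exact isUnit_iff_exists.2 ⟨toMat (xC r 2),
      by rw [← toMat_mul _ _ (xC_ok r.1 r.2 1).1, (cube_ok r).2, toMat_one],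
      by rw [← toMat_mul _ _ (xC_ok r.1 r.2 2).1, (cube_ok r).1, toMat_one]⟩
  set g : Fin 12 → GL (Fin 2 ⊕ Fin 12) (ZMod 3) := fun r => (hu r).unit with hg
  set L := Subgroup.closure (Set.range fun r => (g r, piP r)) with hL
  have hLG : L ≤ GammaG := by
    rw [hL, Subgroup.closure_le]
    rintro _ ⟨r, rfl⟩ p
    exact xMat_step r p
  have hfst : L.map (MonoidHom.fst _ _) = chevG2.group (ZMod 3) := by
    rw [hL, MonoidHom.map_closure]
    refine le_antisymm ((Subgroup.closure_le _).2 ?_) ((Subgroup.closure_le _).2 ?_)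
    · rintro _ ⟨_, ⟨r, rfl⟩, rfl⟩
      exact Subgroup.subset_closure ⟨r, 1, (xMat_eq r 1).symm⟩
    · rintro k ⟨r, t, hk⟩
      set S := Subgroup.closure (MonoidHom.fst _ _ '' Set.range fun r => (g r, piP r))
      have hr : g r ∈ S := Subgroup.subset_closure ⟨_, ⟨r, rfl⟩, rfl⟩
      have h := List.all_eq_true.1 sq_ok r.1 (List.mem_range.2 r.2)
      simp only [Bool.and_eq_true, beq_iff_eq] at h
      obtain rfl | rfl | rfl : t = 0 ∨ t = 1 ∨ t = 2 :=
        (by decide : ∀ u : ZMod 3, u = 0 ∨ u = 1 ∨ u = 2) t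
      · rw [show k = 1 from Units.ext (hk.trans ((xMat_eq r 0).trans ((congrArg toMat h.2).trans toMat_one)))]
        exact one_mem _
      · rw [show k = g r from Units.ext (hk.trans (xMat_eq r 1))]
        exact hr
      · rw [show k = g r * g r from Units.ext (hk.trans ((xMat_eq r 2).trans
          ((congrArg toMat h.1).symm.trans (toMat_mul _ _ (xC_ok r.1 r.2 1).1))))]
        exact mul_mem hr hr
  have hsnd : L.map (MonoidHom.snd _ _) = PG := by
    rw [hL, MonoidHom.map_closure, PG, ← Set.range_comp]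
    rfl
  set f1 := (MonoidHom.fst (GL (Fin 2 ⊕ Fin 12) (ZMod 3)) (Equiv.Perm (Fin 351))).comp L.subtype with hf1
  set f2 := (MonoidHom.snd (GL (Fin 2 ⊕ Fin 12) (ZMod 3)) (Equiv.Perm (Fin 351))).comp L.subtype with hf2
  have h1 : Function.Injective f1 := by
    rw [← MonoidHom.ker_eq_bot_iff, eq_bot_iff]
    rintro ⟨⟨m, σ⟩, hx⟩ (he : m = 1)
    subst he
    refine Subgroup.mem_bot.2 (Subtype.ext (Prod.ext rfl (Equiv.ext fun p => ?_)))
    have h := hLG hx p
    simp only [Units.val_one, Matrix.one_mulVec] at h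
    exact (eq_of_vec h).symm
  have hr1 : f1.range = chevG2.group (ZMod 3) := by rw [hf1, MonoidHom.range_comp, Subgroup.range_subtype, hfst]
  have hr2 : f2.range = PG := by rw [hf2, MonoidHom.range_comp, Subgroup.range_subtype, hsnd]
  set e1 : ↥L ≃* ↥(chevG2.group (ZMod 3)) :=
    (MonoidHom.ofInjective h1).trans (MulEquiv.subgroupCongr hr1) with he1
  haveI : IsSimpleGroup ↥(chevG2.group (ZMod 3)) := ReeG2.simple_of_two_ne (by decide)
  haveI : Nontrivial ↥L := e1.symm.injective.nontrivial
  haveI : IsSimpleGroup ↥L := IsSimpleGroup.isSimpleGroup_of_surjective e1.symm.toMonoidHom e1.symm.surjective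
  have h2 : Function.Injective f2 := by
    rw [← MonoidHom.ker_eq_bot_iff]
    rcases (inferInstance : f2.ker.Normal).eq_bot_or_eq_top with hb | hb
    · exact hb
    · exfalso
      have h0 : f2 ⟨(g 0, piP 0), Subgroup.subset_closure ⟨0, rfl⟩⟩ = 1 :=
        MonoidHom.mem_ker.1 (hb ▸ Subgroup.mem_top _)
      exact piP_ne rfl h0
  exact ⟨((MulEquiv.subgroupCongr hr2).symm.trans (MonoidHom.ofInjective h2).symm).trans e1⟩

theorem card_group : Nat.card ↥(chevG2.group (ZMod 3)) = 4245696 := by
  rw [Cfsg.Agent.S1059.result (q := 3) (ZMod.card 3)]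
  norm_num

end

end CfsgLib.M24G2
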