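import Cfsg.Agent.M24G2.Code0
import Cfsg.Agent.M24G2.Code1
import Cfsg.Agent.M24G2.Code2
import Cfsg.Agent.M24G2.Code3
import Cfsg.Agent.M24G2.Code4
import Cfsg.Agent.M24G2.Code5
import Cfsg.Agent.M24G2.Code6
import Cfsg.Agent.M24G2.Code7

/-! The 1080 words fix two points and have different test numbers. -/

set_option autoImplicit false
set_option maxRecDepth 100000
set_option Elab.async false

namespace CfsgLib.M24G2

open CfsgLib.CosetEnum CfsgLib.Fi23Pts

noncomputable section

theorem blockOK_spec : ∀ {l m : List ℕ}, blockOK l m = true →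
    l.map (fun c => codeW (wd c)) = m ∧ ∀ c ∈ l, okC (wd c) = true
  | [], [], _ => ⟨rfl, by simp⟩
  | [], _ :: _, h => by simp [blockOK] at h
  | _ :: _, [], h => by simp [blockOK] at h
  | c :: l, d :: m, h => by
    simp only [blockOK, Bool.and_eq_true, force_eq, Nat.beq_eq] at h
    obtain ⟨⟨h1, h2⟩, h3⟩ := h
    obtain ⟨e, hl⟩ := blockOK_spec h3
    refine ⟨by rw [List.map_cons, e, h2], fun x hx => ?_⟩
    rcases List.mem_cons.1 hx with rfl | hx
    exacts [h1, hl x hx]

/-- All the words. -/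
def WI : List ℕ := WI0 ++ WI1 ++ WI2 ++ WI3 ++ WI4 ++ WI5 ++ WI6 ++ WI7

/-- All the test numbers. -/
def CD : List ℕ := CD0 ++ CD1 ++ CD2 ++ CD3 ++ CD4 ++ CD5 ++ CD6 ++ CD7

theorem CD_ok : (incr CD && Nat.beq WI.length 1080 && Qs.all fun q => Nat.blt q 31671) = true := by decide +kernel

theorem WI_spec : WI.map (fun c => codeW (wd c)) = CD ∧ ∀ c ∈ WI, okC (wd c) = true := by
  obtain ⟨a0, b0⟩ := blockOK_spec block0
  obtain ⟨a1, b1⟩ := blockOK_spec block1
  obtain ⟨a2, b2⟩ := blockOK_spec block2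
  obtain ⟨a3, b3⟩ := blockOK_spec block3
  obtain ⟨a4, b4⟩ := blockOK_spec block4
  obtain ⟨a5, b5⟩ := blockOK_spec block5
  obtain ⟨a6, b6⟩ := blockOK_spec block6
  obtain ⟨a7, b7⟩ := blockOK_spec block7
  refine ⟨by simp only [WI, CD, List.map_append, a0, a1, a2, a3, a4, a5, a6, a7], fun c hc => ?_⟩
  simp only [WI, List.mem_append] at hc
  rcases hc with ((((((hc | hc) | hc) | hc) | hc) | hc) | hc) | hc
  exacts [b0 c hc, b1 c hc, b2 c hc, b3 c hc, b4 c hc, b5 c hc, b6 c hc, b7 c hc]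

theorem code_inj {c d : ℕ} (hc : c ∈ WI) (hd : d ∈ WI)
    (h : ∀ q < 31671, inA (walkS (wd c) q) = inA (walkS (wd d) q)) : c = d := by
  have hok := CD_ok
  simp only [Bool.and_eq_true, List.all_eq_true, Nat.blt_eq] at hok
  have hnd : (WI.map fun c => codeW (wd c)).Nodup := by
    rw [WI_spec.1]
    exact (incr_pairwise hok.1.1).imp fun h => Nat.ne_of_lt h
  refine List.inj_on_of_nodup_map hnd hc hd ?_
  show codeW (wd c) = codeW (wd d)
  have key : ∀ l : List ℕ, (∀ q ∈ l, q < 31671) →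
      l.foldr (fun q acc => 2 * acc + (bif inA (walkS (wd c) q) then 1 else 0)) 0 =
        l.foldr (fun q acc => 2 * acc + (bif inA (walkS (wd d) q) then 1 else 0)) 0 := by
    intro l hl
    induction l with
    | nil => rfl
    | cons q l ih =>
      rw [List.foldr_cons, List.foldr_cons, ih fun r hr => hl r (List.mem_cons_of_mem _ hr),
        h q (hl q List.mem_cons_self)]
  exact key Qs hok.2

theorem WI_length : WI.toFinset.card = 1080 := by
  have hok := CD_ok
  simp only [Bool.and_eq_true, Nat.beq_eq] at hok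
  rw [List.toFinset_card_of_nodup, hok.1.2]
  refine List.Nodup.of_map (fun c => codeW (wd c)) ?_
  rw [WI_spec.1]
  exact (incr_pairwise hok.1.1).imp fun h => Nat.ne_of_lt h

end

end CfsgLib.M24G2
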