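import Cfsg.Agent.Fi23Three.Model
import Cfsg.Agent.M24G2.Lines
import Cfsg.Agent.M24G2.Words
import Cfsg.Agent.Transpositions.M24Facts
import Cfsg.Agent.FischerTypes.M24PrimeLocal

/-!
In type M(24) the centralizer of two suitable commuting lines is `G₂(3)`.

In the quotient of the centralizer of `x`, of type M(23), the members are 31671 points; the members
commuting with `y` form a set of 3240 points fixed by nine letters. Twelve words realize the twelve root
elements on 351 points, and 1080 words move the set of 3240 points to different sets.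
-/

set_option autoImplicit false
set_option maxRecDepth 100000
set_option linter.unusedSectionVars false

namespace CfsgLib.M24G2

open Cfsg CfsgLib.FischerTypes CfsgLib.CosetEnum CfsgLib.Fi23Pts CfsgLib.Fi23Three
open CfsgLib.Transpositions
open CfsgLib.Transpositions.M24Unique (Conf24 gensL exists_conf24)
open CfsgLib.Transpositions.M23Unique (barF barF_eq Conf)
open CfsgLib.Transpositions.M22Unique (flip flip_lt)

noncomputable section

variable {G : Type*} [Group G] [Finite G] {D : Set G} {x y a b : G} {F : ℕ → G}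

/-- The member of a letter. -/
def Fl (b : G) (F : ℕ → G) (k : ℕ) : G := [F 6, F 5, F 4, F 3, F 2, F 1, F 0, b, F 7, F 8].getD k 1

/-- The element of a word. -/
def wl (b : G) (F : ℕ → G) (w : List ℕ) : G := (w.map (Fl b F)).prod

variable (H : M24.Hyp G D) (hC : Conf24 D x y a b F)

include H hC

theorem fl_perp {k : ℕ} (hk : k < 10) : Fl b F k ∈ FischerTypes.perp D x := by
  interval_cases k
  case «7» => exact hC.bx H
  all_goals exact (hC.mem _ (by norm_num)).2

theorem wl_mem : ∀ {w : List ℕ}, ok w = true → wl b F w ∈ Subgroup.closure (FischerTypes.perp D x) := by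
  intro w hw
  refine Subgroup.list_prod_mem _ fun u hu => ?_
  obtain ⟨k, hk, rfl⟩ := List.mem_map.1 hu
  exact mem_perp_closure (fl_perp H hC (by simpa using List.all_eq_true.1 hw k hk))

theorem wl_mem_centralizer {w : List ℕ} (hw : ok w = true) : wl b F w ∈ Subgroup.centralizer ({x} : Set G) :=
  (M24.centralizer_eq H.group H hC.memx).symm ▸ wl_mem H hC hw

/-- The dictionary of the quotient at `x`: letters are the images of the members. -/
theorem exists_dict : ∃ M : FM (PerpQuot D x) (img D x),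
    ∀ k, ∀ hk : k < 10, M.el [k] = bar (fl_perp H hC hk) := by
  have hc := hC.conf_x H
  have HQ := M24.quot H hC.memx
  obtain ⟨e₀, he⟩ := exists_iso hc HQ
  let e : Fi23.setup.Grp ≃* PerpQuot D x := e₀
  obtain ⟨S⟩ := exists_act
  have hF : ∀ s (hs : s < 9), barF D x (F ∘ flip) s = bar ((hC.mem _ (flip_lt hs)).2) :=
    fun s hs => barF_eq (F := F ∘ flip) (hC.mem _ (flip_lt hs)).2
  have hA : e A = barF D x (F ∘ flip) 0 := he _
  refine ⟨⟨S, e, fun t => ?_⟩, fun k hk => ?_⟩
  · rw [hA]
    constructor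
    · intro ht
      obtain ⟨g, hgt⟩ := HQ.prim.1 _ (hc.mem 0 (by norm_num)).1 t ht
      exact ⟨g, hgt.symm⟩
    · rintro ⟨g, rfl⟩
      exact HQ.group.2.1 g _ (hc.mem 0 (by norm_num)).1
  · rw [FM.el_mem_letter]
    refine (he _).trans ?_
    interval_cases k
    case «7» => rfl
    all_goals exact hF _ (by norm_num)

variable (M : FM (PerpQuot D x) (img D x)) (hlet : ∀ k, ∀ hk : k < 10, M.el [k] = bar (fl_perp H hC hk))

include hlet

theorem el_wl : ∀ {w : List ℕ} (hw : ok w = true),
    M.el w = M24.proj H hC.memx ⟨wl b F w, wl_mem_centralizer H hC hw⟩ := by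
  intro w
  induction w with
  | nil =>
    intro hw
    rw [M.el_nil, show (⟨wl b F [], wl_mem_centralizer H hC hw⟩ : ↥(Subgroup.centralizer ({x} : Set G))) = 1 from
      Subtype.ext rfl, map_one]
  | cons k w ih =>
    intro hw
    have hw' : k < 10 ∧ ok w = true := by simpa [ok] using hw
    rw [M.el_cons, hlet k hw'.1, ih hw'.2, ← M24.proj_perp H hC.memx (fl_perp H hC hw'.1), ← map_mul]
    exact congrArg _ (Subtype.ext (List.prod_cons).symm)

omit hlet in
/-- Conjugation read on the points. -/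
theorem bar_conj {u : G} (hu : u ∈ FischerTypes.perp D x) {i : Fin N} (hi : bar hu = M.d i)
    (k : ↥(Subgroup.centralizer ({x} : Set G))) :
    ∃ hk : (k : G) * u * (k : G)⁻¹ ∈ FischerTypes.perp D x,
      bar hk = M.d (M.φ (M24.proj H hC.memx k) i) := by
  have hkx : (k : G) * x = x * k := Subgroup.mem_centralizer_singleton_iff.1 k.2
  have hk := conj_mem_perp H.group hkx hu
  refine ⟨hk, ?_⟩
  rw [M.d_conj (i := i) (y := M24.proj H hC.memx k) rfl, ← hi, ← M24.proj_perp H hC.memx hu,
    ← M24.proj_perp H hC.memx hk, ← map_inv, ← map_mul, ← map_mul]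
  exact congrArg _ (Subtype.ext rfl)

omit hlet in
/-- An element of the centralizer of `x` commutes with a member iff it fixes its point. -/
theorem commute_iff_fix {u : G} (hu : u ∈ FischerTypes.perp D x) {i : Fin N} (hi : bar hu = M.d i)
    (k : ↥(Subgroup.centralizer ({x} : Set G))) :
    Commute (k : G) u ↔ M.φ (M24.proj H hC.memx k) i = i := by
  rw [← M.commute_iff, ← hi]
  exact ((M24.commute_proj_bar H hC.memx hu k).trans ⟨Commute.symm, Commute.symm⟩).symm.trans
    ⟨Commute.symm, Commute.symm⟩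

omit hlet in
/-- The transposition at the point `0` is the central word. -/
theorem d_zero : M.d ⟨0, by decide⟩ = M.el zw :=
  M.eq_of_agree (v := dw 0) (w := zw) (by decide +kernel) (by decide +kernel)
    (show agree (dw 0) zw = true by decide +kernel)

/-- The member `a` is at the point `0`. -/
theorem bar_a : bar (hC.ax H) = M.d ⟨0, by decide⟩ := by
  have h0 := d_zero H hC M
  have hw : zw.map (Fl b F) = Transpositions.Braid.Words.z2.map (F ∘ flip) := rfl
  have h1 : M.el zw = Transpositions.Braid.pw (barF D x (F ∘ flip)) Transpositions.Braid.Words.z2 := by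
    obtain ⟨hm, he⟩ := Transpositions.M24Unique.bar_pw (D := D) (d := x) (f := F ∘ flip)
      (fun s hs => (hC.mem _ (flip_lt hs)).2) (l := Transpositions.Braid.Words.z2) (by decide +kernel)
    rw [el_wl H hC M hlet (w := zw) (by decide +kernel), he, M24.proj_apply]
    exact congrArg _ (Subtype.ext (congrArg List.prod hw))
  rcases (hC.conf_x H).pw_z2 (M24.quot H hC.memx) with h | h
  · exfalso
    exact FischerTypes.ne_one (M24.quot H hC.memx).group.1 (M.d_mem ⟨0, by decide⟩) ((h0.trans h1).trans h)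
  · exact (h0.trans (h1.trans h)).symm

omit hlet in
/-- A word in the nine letters keeps the points of the common neighbours. -/
theorem inA_walk : ∀ {w : List ℕ}, (∀ k ∈ w, k ∈ [1, 2, 3, 4, 5, 6, 7, 8, 9]) → ∀ {p : ℕ}, inA p = true →
    inA (walkS w p) = true := by
  intro w
  induction w with
  | nil => exact fun _ _ h => h
  | cons k w ih =>
    intro hw p hp
    have h1 := closed_AL hp (hw k List.mem_cons_self)
    simp only [walkS, force_eq] at h1 ⊢
    exact ih (fun l hl => hw l (List.mem_cons_of_mem _ hl)) h1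

/-- The members commuting with `x` and `y` are those at the marked points. -/
theorem mem_perp_iff {u : G} (hu : u ∈ FischerTypes.perp D x) {i : Fin N} (hi : bar hu = M.d i) :
    u ∈ FischerTypes.perp D y ↔ inA i = true := by
  classical
  set S : Set G := {w | ∃ hw : w ∈ FischerTypes.perp D x, ∃ j : Fin N, inA j = true ∧ bar hw = M.d j} with hS
  have hAL := AL_ok
  simp only [Bool.and_eq_true, Nat.beq_eq, List.all_eq_true, Nat.blt_eq] at hAL
  obtain ⟨⟨⟨⟨⟨hinc, hlen⟩, hlt⟩, -⟩, -⟩, -⟩ := hAL
  have hT : {j : Fin N | inA j = true}.ncard = 3240 := by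
    rw [← Set.ncard_image_of_injective _ Fin.val_injective,
      show Fin.val '' {j : Fin N | inA j = true} = (AL.toFinset : Set ℕ) from ?_, Set.ncard_coe_finset,
      List.toFinset_card_of_nodup ((incr_pairwise hinc).imp fun h => Nat.ne_of_lt h), hlen]
    ext p
    simp only [Set.mem_image, Finset.mem_coe, List.mem_toFinset, ← inA_iff]
    exact ⟨fun ⟨j, hj, e⟩ => e ▸ hj, fun hp => ⟨⟨p, hlt p ((inA_iff p).1 hp)⟩, hp, rfl⟩⟩
  have hex : ∀ j : Fin N, ∃ w : G, ∃ hw : w ∈ FischerTypes.perp D x, bar hw = M.d j := fun j => by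
    obtain ⟨w, hw, e⟩ := M23.exists_lift (M.d_mem j)
    exact ⟨w, hw, e⟩
  choose lw hlw hlwb using hex
  have hmemS : ∀ j : Fin N, inA j = true → lw j ∈ S := fun j hj => ⟨hlw j, j, hj, hlwb j⟩
  have hScard : S.ncard = 3240 := by
    rw [← hT]
    refine (Set.ncard_congr (fun j _ => lw j) (fun j hj => hmemS j hj) (fun i j _ _ e => ?_) ?_).symm
    · apply M.d_inj
      rw [← hlwb i, ← hlwb j]
      congr 1
    · rintro w ⟨hw, j, hj, e⟩
      exact ⟨j, hj, M24.bar_inj H hC.memx (hlw j) hw ((hlwb j).trans e.symm)⟩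
  have hgen : ∀ g ∈ gensL a b F, ∀ w ∈ S, g * w * g⁻¹ ∈ S := by
    intro g hg w hw
    obtain ⟨hw, j, hj, e⟩ := hw
    obtain ⟨hgx, l, hl, hgl⟩ : ∃ hgx : g ∈ FischerTypes.perp D x, ∃ l : List ℕ,
        (∀ k ∈ l, k ∈ [1, 2, 3, 4, 5, 6, 7, 8, 9]) ∧ bar hgx = M.el l := by
      rcases hg with (rfl | rfl) | ⟨s, ⟨hs, hs6⟩, rfl⟩
      · exact ⟨hC.ax H, zw, by decide +kernel, (bar_a H hC M hlet).trans (d_zero H hC M)⟩
      · exact ⟨hC.bx H, [7], by decide, (hlet 7 (by norm_num)).symm⟩
      · refine ⟨(hC.mem s hs).2, [[6, 5, 4, 3, 2, 1, 0, 8, 9].getD s 0], ?_, ?_⟩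
        · interval_cases s <;> first | exact absurd rfl hs6 | decide
        · rw [hlet _ (by interval_cases s <;> decide)]
          interval_cases s <;> rfl
    have hok : ok l = true := List.all_eq_true.2 fun k hk => by
      have := hl k hk
      fin_cases this <;> rfl
    obtain ⟨hk, hkb⟩ := bar_conj H hC M hw e ⟨g, Subgroup.mem_centralizer_singleton_iff.2 hgx.2.2.symm.eq⟩
    refine ⟨hk, _, ?_, hkb⟩
    rw [M24.proj_perp H hC.memx hgx, hgl, M.φ_el_apply hok]
    exact inA_walk H hC (fun k hk => hl k (List.mem_reverse.1 hk)) hj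
  have hcom := hC.eq_common_of_invariant H (A := S) (fun w ⟨hw, _⟩ => hw) hScard hgen
  have hiff : u ∈ FischerTypes.perp D y ↔ u ∈ S :=
    ⟨fun h => hcom.symm ▸ ⟨hu, h⟩, fun h => (hcom ▸ h : u ∈ FischerTypes.perp D x ∩ FischerTypes.perp D y).2⟩
  rw [hiff]
  refine ⟨?_, fun h => ⟨hu, i, h, hi⟩⟩
  rintro ⟨_, j, hj, e⟩
  rwa [M.d_inj (hi.symm.trans e)]

/-- The marked member of the second line. -/
theorem exists_v : ∃ v, ∃ hv : v ∈ FischerTypes.perp D x, bar hv = M.d ⟨PV, by decide⟩ ∧
    v ∈ FischerTypes.perp D y ∧ ¬ Commute a v := by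
  obtain ⟨v, hv, e⟩ := M23.exists_lift (M.d_mem ⟨PV, by decide⟩)
  have hAL := AL_ok
  simp only [Bool.and_eq_true, Bool.not_eq_true'] at hAL
  refine ⟨v, hv, e, (mem_perp_iff H hC M hlet hv e).2 hAL.1.2, fun hc => ?_⟩
  have h1 : Commute (bar hv) (bar (hC.ax H)) := ((M24.bar_commute H _ _).2 hc).symm
  rw [e, bar_a H hC M hlet, M.commute_iff, ← M.d_inv, map_inv] at h1
  have h2 := (M.φ_el (w := dw PV) (by decide +kernel) ⟨0, by decide⟩).symm.trans (congrArg Fin.val h1)
  have h3 : com PV 0 = true := by simpa [com, mv] using h2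
  rw [h3] at hAL
  exact Bool.false_ne_true hAL.2.symm

theorem ok_of_okC {w : List ℕ} (h : okC w = true) : ok w = true := by
  simp only [okC, Bool.and_eq_true] at h
  refine List.all_eq_true.2 fun k hk => ?_
  have := List.all_eq_true.1 h.1.1 k hk
  simp at this ⊢
  omega

variable {v : G} (hv : v ∈ FischerTypes.perp D x) (hvb : bar hv = M.d ⟨PV, by decide⟩)

include hv hvb

theorem lift_okC {w : List ℕ} (h : okC w = true) :
    wl b F w ∈ Subgroup.centralizer ({x, a, v} : Set G) := by
  have hok := ok_of_okC H hC M hlet h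
  simp only [okC, Bool.and_eq_true, Nat.beq_eq] at h
  have hc := wl_mem_centralizer H hC hok
  rw [Subgroup.mem_centralizer_iff]
  rintro t (rfl | rfl | rfl)
  · exact (Subgroup.mem_centralizer_singleton_iff.1 hc).symm
  · have : wl b F w ∈ Subgroup.centralizer ({t} : Set G) := by
      refine Subgroup.list_prod_mem _ fun u hu => ?_
      obtain ⟨k, hk, rfl⟩ := List.mem_map.1 hu
      rw [Subgroup.mem_centralizer_singleton_iff]
      have hk9 := List.all_eq_true.1 h.1.1 k hk
      simp at hk9
      rcases hk9 with rfl | rfl | rfl | rfl | rfl | rfl | rfl | rfl | rfl <;>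
        exact (hC.mem _ (by norm_num)).1.2.2.symm.eq
    exact (Subgroup.mem_centralizer_singleton_iff.1 this).symm
  · refine Commute.eq (Commute.symm ((commute_iff_fix H hC M hv hvb ⟨_, hc⟩).2 ?_))
    rw [← el_wl H hC M hlet hok]
    refine Equiv.Perm.inv_eq_iff_eq.1 ?_ |>.symm
    exact Fin.ext ((M.φ_el hok _).trans h.1.2)

theorem lift_okG {w : List ℕ} (h : okG w = true) :
    ok w = true ∧ wl b F w ∈ Subgroup.centralizer ({x, a, v, y} : Set G) := by
  simp only [okG, Bool.and_eq_true, Nat.beq_eq] at h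
  have hok : ok w = true := List.all_eq_true.2 fun k hk => by
    have := List.all_eq_true.1 h.1 k hk
    simp at this ⊢
    omega
  refine ⟨hok, ?_⟩
  have hL : wl b F w ∈ Subgroup.closure (gensL a b F) := by
    refine Subgroup.list_prod_mem _ fun u hu => ?_
    obtain ⟨k, hk, rfl⟩ := List.mem_map.1 hu
    refine Subgroup.subset_closure (Or.inr ?_)
    have hk9 := List.all_eq_true.1 h.1 k hk
    simp at hk9
    rcases hk9 with rfl | rfl | rfl | rfl | rfl | rfl | rfl | rfl <;>
      exact ⟨_, ⟨by norm_num, by norm_num⟩, rfl⟩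
  have hxy := Subgroup.mem_centralizer_iff.1 (hC.gens_le H hL)
  rw [Subgroup.mem_centralizer_iff]
  rintro t (rfl | rfl | rfl | rfl)
  · exact hxy _ (by simp)
  · have : wl b F w ∈ Subgroup.centralizer ({t} : Set G) := by
      refine Subgroup.list_prod_mem _ fun u hu => ?_
      obtain ⟨k, hk, rfl⟩ := List.mem_map.1 hu
      rw [Subgroup.mem_centralizer_singleton_iff]
      have hk9 := List.all_eq_true.1 h.1 k hk
      simp at hk9
      rcases hk9 with rfl | rfl | rfl | rfl | rfl | rfl | rfl | rfl <;>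
        exact (hC.mem _ (by norm_num)).1.2.2.symm.eq
    exact (Subgroup.mem_centralizer_singleton_iff.1 this).symm
  · refine Commute.eq (Commute.symm ((commute_iff_fix H hC M hv hvb ⟨_, wl_mem_centralizer H hC hok⟩).2 ?_))
    rw [← el_wl H hC M hlet hok]
    refine Equiv.Perm.inv_eq_iff_eq.1 ?_ |>.symm
    exact Fin.ext ((M.φ_el hok _).trans h.2)
  · exact hxy _ (by simp)

/-- The centralizer of three members has at most twice the order of that of a pair. -/
theorem card_three (hav : ¬ Commute a v) :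
    Nat.card ↥(Subgroup.centralizer ({x, a, v} : Set G)) ≤ 2 * 4585351680 := by
  have HQ := M24.quot H hC.memx
  have hpair := (TypeM23.mu_props HQ (M24.bar_mem H hC.memx (hC.ax H)) (M24.bar_mem H hC.memx hv)
    fun hc => hav ((M24.bar_commute H _ _).1 hc)).2.2
  rw [← hpair, ← M24.card_comap_proj H hC.memx]
  have hle : Subgroup.centralizer ({x, a, v} : Set G) ≤ Subgroup.centralizer ({x} : Set G) :=
    Subgroup.centralizer_le (by simp)
  rw [← Nat.card_congr (Subgroup.subgroupOfEquivOfLe hle).toEquiv]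
  refine Subgroup.card_le_of_le fun k hk => ?_
  have hk' := Subgroup.mem_centralizer_iff.1 (Subgroup.mem_subgroupOf.1 hk)
  rw [Subgroup.mem_comap, Subgroup.mem_centralizer_iff]
  rintro t (rfl | rfl)
  · exact ((M24.commute_proj_bar H hC.memx (hC.ax H) k).2 (hk' a (by simp))).eq
  · exact ((M24.commute_proj_bar H hC.memx hv k).2 (hk' v (by simp))).eq

/-- A member of the orbit of `y` determines the points it moves onto the common neighbours. -/
theorem perp_moved {w : List ℕ} (hw : ok w = true) {k : ↥(Subgroup.centralizer ({x} : Set G))}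
    (hk : M24.proj H hC.memx k = M.el w) {q : Fin N} {u : G} (hu : u ∈ FischerTypes.perp D x)
    (hq : bar hu = M.d q) :
    u ∈ FischerTypes.perp D ((k : G) * y * (k : G)⁻¹) ↔ inA (walkS w q) = true := by
  obtain ⟨hk', hkb⟩ := bar_conj H hC M hu hq k⁻¹
  rw [map_inv, hk] at hkb
  have e : (k : G) * (((k⁻¹ : ↥(Subgroup.centralizer ({x} : Set G))) : G) * u *
      ((k⁻¹ : ↥(Subgroup.centralizer ({x} : Set G))) : G)⁻¹) * (k : G)⁻¹ = u := by
    simp only [InvMemClass.coe_inv]; group
  rw [← e, M24.perp_conj H, mem_perp_iff H hC M hlet hk' hkb, map_inv, M.φ_el hw]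

theorem card_le (hav : ¬ Commute a v) :
    Nat.card ↥(Subgroup.centralizer ({x, a, v, y} : Set G)) ≤ 4245696 := by
  classical
  set C3 := Subgroup.centralizer ({x, a, v} : Set G) with hC3
  set f : G → G := fun k => k * y * k⁻¹ with hf
  set O := f '' (C3 : Set G) with hO
  have hcount : Nat.card ↥C3 = O.ncard * Nat.card ↥(Subgroup.centralizer ({x, a, v, y} : Set G)) := by
    refine card_eq_ncard_mul_card (H := C3) (K := Subgroup.centralizer ({x, a, v, y} : Set G))
      (Subgroup.centralizer_le (by intro t; simp; tauto)) f (S := O) (fun k hk => ⟨k, hk, rfl⟩)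
      (fun z hz => hz) fun k hk l hl => ?_
    rw [hf, conj_eq_conj_iff, Subgroup.mem_centralizer_iff]
    refine ⟨fun hc => ?_, fun hc => (hc y (by simp)).symm⟩
    have hm := Subgroup.mem_centralizer_iff.1 (mul_mem (inv_mem hk) hl)
    rintro t (rfl | rfl | rfl | rfl)
    exacts [hm _ (by simp), hm _ (by simp), hm _ (by simp), hc.symm]
  have hxC : x ∈ C3 := by
    rw [hC3, Subgroup.mem_centralizer_iff]
    rintro t (rfl | rfl | rfl)
    exacts [rfl, hC.xa.symm.eq, hv.2.2.symm.eq]
  set g : ↥(WI.toFinset) × Bool → O := fun p => ⟨f (wl b F (wd p.1.1) * bif p.2 then x else 1),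
    ⟨_, mul_mem (lift_okC H hC M hlet hv hvb (WI_spec.2 _ (List.mem_toFinset.1 p.1.2)))
      (by cases p.2; exacts [one_mem _, hxC]), rfl⟩⟩ with hg
  have hinj : Function.Injective g := by
    rintro ⟨⟨c, hc⟩, s⟩ ⟨⟨d, hd⟩, t⟩ he
    have he' : f (wl b F (wd c) * bif s then x else 1) = f (wl b F (wd d) * bif t then x else 1) :=
      congrArg Subtype.val he
    rw [List.mem_toFinset] at hc hd
    have hxc : x ∈ Subgroup.centralizer ({x} : Set G) := Subgroup.mem_centralizer_singleton_iff.2 rfl
    have hsig : ∀ {e : ℕ}, e ∈ WI → ∀ (r : Bool) (q : Fin N) {u : G} (hu : u ∈ FischerTypes.perp D x),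
        bar hu = M.d q →
        (u ∈ FischerTypes.perp D (f (wl b F (wd e) * bif r then x else 1)) ↔ inA (walkS (wd e) q) = true) := by
      intro e hE r q u hu hq
      have hok := ok_of_okC H hC M hlet (WI_spec.2 e hE)
      have hmem : wl b F (wd e) * (bif r then x else 1) ∈ Subgroup.centralizer ({x} : Set G) :=
        mul_mem (wl_mem_centralizer H hC hok) (by cases r; exacts [one_mem _, hxc])
      refine perp_moved H hC M hlet hv hvb hok (k := ⟨_, hmem⟩) ?_ hu hq
      rw [el_wl H hC M hlet hok]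
      cases r
      · exact congrArg _ (Subtype.ext (mul_one _))
      · rw [show (⟨_, hmem⟩ : ↥(Subgroup.centralizer ({x} : Set G))) =
            ⟨wl b F (wd e), wl_mem_centralizer H hC hok⟩ * ⟨x, hxc⟩ from rfl, map_mul,
          (M24.proj_eq_one H hC.memx).2 (Or.inr rfl : (⟨x, hxc⟩ : ↥(Subgroup.centralizer ({x} : Set G))).1 = 1 ∨ _),
          mul_one]
    obtain rfl : c = d := code_inj hc hd fun q hq => by
      obtain ⟨u, hu, e⟩ := M23.exists_lift (M.d_mem ⟨q, hq⟩)
      have h1 := hsig hc s ⟨q, hq⟩ hu e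
      rw [he', hsig hd t ⟨q, hq⟩ hu e] at h1
      exact (Bool.eq_iff_iff.2 h1).symm
    suffices s = t by subst this; rfl
    by_contra hst
    have hyy : ∀ {w : G}, f (w * x) = f w → False := fun {w} h => by
      have h' : x * y * x⁻¹ = y := by
        calc x * y * x⁻¹ = w⁻¹ * (f (w * x)) * w := by simp only [hf]; group
          _ = w⁻¹ * (f w) * w := by rw [h]
          _ = y := by simp only [hf]; group
      exact hC.nxy (mul_inv_eq_iff_eq_mul.1 h')
    cases s <;> cases t
    exacts [hst rfl, hyy (by simpa using he'.symm), hyy (by simpa using he'), hst rfl]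
  have hO2 : 2160 ≤ O.ncard := by
    have := Nat.card_le_card_of_injective g hinj
    rwa [Nat.card_prod, Nat.card_eq_fintype_card, Fintype.card_coe, WI_length, Nat.card_eq_fintype_card,
      Fintype.card_bool, Nat.card_coe_set_eq] at this
  have h3 := card_three H hC M hlet hv hvb hav
  rw [← hC3, hcount] at h3
  have := Nat.mul_le_mul_right (Nat.card ↥(Subgroup.centralizer ({x, a, v, y} : Set G))) hO2
  omega

theorem nonempty_iso (hav : ¬ Commute a v) :
    Nonempty (↥(Subgroup.centralizer ({x, a, v, y} : Set G)) ≃* ↥(Cfsg.Lie.chevG2.group (ZMod 3))) := by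
  classical
  set K := Subgroup.centralizer ({x, a, v, y} : Set G) with hK
  have hKx : K ≤ Subgroup.centralizer ({x} : Set G) := Subgroup.centralizer_le (by simp)
  set ψ : ↥K →* Equiv.Perm (Fin N) :=
    M.φ.comp ((M24.proj H hC.memx).comp (Subgroup.inclusion hKx)) with hψ
  have hlp := lp_ok
  simp only [List.all_eq_true, Bool.and_eq_true, Nat.blt_eq, List.mem_range, Bool.not_eq_true'] at hlp
  set LP : Fin 351 → Fin N := fun p => ⟨lpN p, (hlp p p.2).1⟩ with hLP
  have hLPinj : Function.Injective LP := by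
    intro p q h
    have e : lpN p = lpN q := congrArg Fin.val h
    rcases Nat.lt_trichotomy p.1 q.1 with h' | h' | h'
    · have := (hlp q q.2).2 p h'
      rw [← e] at this
      simp at this
    · exact Fin.ext h'
    · have := (hlp p p.2).2 q h'
      rw [e] at this
      simp at this
  let Γ : Subgroup (↥K × Equiv.Perm (Fin 351)) :=
    { carrier := {z | ∀ p, ψ z.1 (LP p) = LP (z.2 p)}
      one_mem' := fun p => by simp
      mul_mem' := fun {z w} hz hw p => by
        simp only [Prod.fst_mul, Prod.snd_mul, map_mul, Equiv.Perm.mul_apply, hw p, hz (w.2 p)]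
      inv_mem' := fun {z} hz p => by
        simp only [Prod.fst_inv, Prod.snd_inv, map_inv]
        rw [Equiv.Perm.inv_eq_iff_eq, hz, show z.2 (z.2⁻¹ p) = p from z.2.apply_symm_apply p] }
  have hgen : ∀ r : Fin 12, ∃ k : ↥K, (k, piP r) ∈ Γ := by
    intro r
    have h := actG_all r.2
    simp only [actG, force_eq, Bool.and_eq_true, List.all_eq_true, List.mem_range, Nat.beq_eq] at h
    obtain ⟨hok, hmem⟩ := lift_okG H hC M hlet hv hvb h.1
    refine ⟨(⟨wl b F (wd (WG.getD r 0)), hmem⟩ : ↥K)⁻¹, fun p => ?_⟩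
    simp only [map_inv]
    have e : ψ ⟨wl b F (wd (WG.getD r 0)), hmem⟩ = M.φ (M.el (wd (WG.getD r 0))) := by
      rw [el_wl H hC M hlet hok]
      rfl
    rw [e]
    exact Fin.ext ((M.φ_el hok _).trans (h.2 p p.2))
  choose κ hκ using hgen
  set L := Subgroup.closure (Set.range fun r => (κ r, piP r)) with hL
  have hLΓ : L ≤ Γ := by
    rw [hL, Subgroup.closure_le]
    rintro _ ⟨r, rfl⟩
    exact hκ r
  set f1 := (MonoidHom.fst ↥K (Equiv.Perm (Fin 351))).comp L.subtype with hf1
  set f2 := (MonoidHom.snd ↥K (Equiv.Perm (Fin 351))).comp L.subtype with hf2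
  have h1 : Function.Injective f1 := by
    rw [← MonoidHom.ker_eq_bot_iff, eq_bot_iff]
    rintro ⟨⟨m, σ⟩, hx⟩ (he : m = 1)
    subst he
    refine Subgroup.mem_bot.2 (Subtype.ext (Prod.ext rfl (Equiv.ext fun p => hLPinj ?_)))
    have h := hLΓ hx p
    simp only [map_one, Equiv.Perm.one_apply] at h
    exact h.symm
  have hr2 : f2.range = PG := by
    rw [hf2, MonoidHom.range_comp, Subgroup.range_subtype, hL, MonoidHom.map_closure, PG, ← Set.range_comp]
    rfl
  obtain ⟨eP⟩ := exists_equiv
  have hPG : Nat.card ↥PG = 4245696 := (Nat.card_congr eP.toEquiv).trans card_group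
  have hs2 : Function.Surjective f2.rangeRestrict := f2.rangeRestrict_surjective
  have hle1 := Nat.card_le_card_of_injective f1 h1
  have hle2 := Nat.card_le_card_of_surjective _ hs2
  rw [hr2, hPG] at hle2
  have hKle := card_le H hC M hlet hv hvb hav
  have e1 : ↥L ≃* ↥K := MulEquiv.ofBijective f1
    ((Nat.bijective_iff_injective_and_card f1).2 ⟨h1, by rw [← hK] at hKle; omega⟩)
  have e2 : ↥L ≃* ↥f2.range := MulEquiv.ofBijective f2.rangeRestrict
    ((Nat.bijective_iff_surjective_and_card f2.rangeRestrict).2 ⟨hs2, by rw [hr2, hPG]; rw [← hK] at hKle; omega⟩)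
  exact ⟨((e1.symm.trans e2).trans (MulEquiv.subgroupCongr hr2)).trans eP⟩

end

/-- Four members of two commuting lines with centralizer `G₂(3)`. -/
theorem exists_quad {G : Type*} [Group G] [Finite G] {D : Set G} (H : M24.Hyp G D) :
    ∃ a b c d : G, a ∈ D ∧ b ∈ D ∧ c ∈ D ∧ d ∈ D ∧ ¬ Commute a d ∧ ¬ Commute b c ∧ Commute a b ∧
      Commute a c ∧ Commute d b ∧ Commute d c ∧
      Nonempty (↥(Subgroup.centralizer ({a, b, c, d} : Set G)) ≃* ↥(Cfsg.Lie.chevG2.group (ZMod 3))) := by
  obtain ⟨x, y, a, b, F, hC⟩ := exists_conf24 H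
  obtain ⟨M, hlet⟩ := exists_dict H hC
  obtain ⟨v, hv, hvb, hvy, hav⟩ := exists_v H hC M hlet
  exact ⟨x, a, v, y, hC.memx, hC.mema, hv.1, hC.memy, hC.nxy, hav, hC.xa, hv.2.2, hC.ya, hvy.2.2,
    nonempty_iso H hC M hlet hv hvb hav⟩

end CfsgLib.M24G2
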